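import Cfsg.Agent.Base

/-! Elementary API for `Cfsg.sympForm`, `Cfsg.sympTransvection` and `Matrix.symplecticGroup`. -/

set_option autoImplicit false

namespace CL.SpG

open Matrix Cfsg

section Ring

variable {m : ℕ} {F : Type*} [CommRing F]

/-- `sympForm` as a bilinear form. -/
noncomputable def sympB (m : ℕ) (F : Type*) [CommRing F] :
    LinearMap.BilinForm F (Fin m ⊕ Fin m → F) :=
  Matrix.toBilin' (Matrix.J (Fin m) F)

theorem sympB_apply (u v : Fin m ⊕ Fin m → F) : sympB m F u v = sympForm m F u v := by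
  simp [sympB, sympForm, Matrix.toBilin'_apply']

theorem sympForm_eq_sum (u v : Fin m ⊕ Fin m → F) :
    sympForm m F u v = ∑ i, (u (.inr i) * v (.inl i) - u (.inl i) * v (.inr i)) := by
  have hv : v = Sum.elim (fun i => v (.inl i)) (fun i => v (.inr i)) := by
    funext i; cases i <;> rfl
  unfold sympForm Matrix.J
  rw [hv, Matrix.fromBlocks_mulVec]
  simp [dotProduct, Fintype.sum_sum_type, Finset.sum_add_distrib, Matrix.neg_mulVec,
    sub_eq_neg_add]

theorem form_add_left (u u' v : Fin m ⊕ Fin m → F) :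
    sympForm m F (u + u') v = sympForm m F u v + sympForm m F u' v := by
  simp [← sympB_apply]

theorem form_add_right (u v v' : Fin m ⊕ Fin m → F) :
    sympForm m F u (v + v') = sympForm m F u v + sympForm m F u v' := by
  simp [← sympB_apply]

theorem form_sub_left (u u' v : Fin m ⊕ Fin m → F) :
    sympForm m F (u - u') v = sympForm m F u v - sympForm m F u' v := by
  simp [← sympB_apply]

theorem form_sub_right (u v v' : Fin m ⊕ Fin m → F) :
    sympForm m F u (v - v') = sympForm m F u v - sympForm m F u v' := by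
  simp [← sympB_apply]

theorem form_smul_left (c : F) (u v : Fin m ⊕ Fin m → F) :
    sympForm m F (c • u) v = c * sympForm m F u v := by
  simp [← sympB_apply]

theorem form_smul_right (c : F) (u v : Fin m ⊕ Fin m → F) :
    sympForm m F u (c • v) = c * sympForm m F u v := by
  simp [← sympB_apply]

theorem form_neg_left (u v : Fin m ⊕ Fin m → F) :
    sympForm m F (-u) v = - sympForm m F u v := by
  simp [← sympB_apply]

theorem form_neg_right (u v : Fin m ⊕ Fin m → F) :
    sympForm m F u (-v) = - sympForm m F u v := by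
  simp [← sympB_apply]

theorem form_zero_left (v : Fin m ⊕ Fin m → F) : sympForm m F 0 v = 0 := by
  simp [← sympB_apply]

theorem form_zero_right (v : Fin m ⊕ Fin m → F) : sympForm m F v 0 = 0 := by
  simp [← sympB_apply]

theorem form_self (v : Fin m ⊕ Fin m → F) : sympForm m F v v = 0 := by
  rw [sympForm_eq_sum]
  exact Finset.sum_eq_zero fun i _ => by ring

theorem form_swap (u v : Fin m ⊕ Fin m → F) : sympForm m F u v = - sympForm m F v u := by
  rw [sympForm_eq_sum, sympForm_eq_sum, ← Finset.sum_neg_distrib]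
  exact Finset.sum_congr rfl fun i _ => by ring

theorem sympB_isAlt : (sympB m F).IsAlt := fun v => by
  rw [sympB_apply]; exact form_self v

theorem form_single_inl_right (u : Fin m ⊕ Fin m → F) (i : Fin m) :
    sympForm m F u (Pi.single (.inl i) 1) = u (.inr i) := by
  rw [sympForm_eq_sum]
  simp [Pi.single_apply]

theorem form_single_inr_right (u : Fin m ⊕ Fin m → F) (i : Fin m) :
    sympForm m F u (Pi.single (.inr i) 1) = - u (.inl i) := by
  rw [sympForm_eq_sum]
  simp [Pi.single_apply]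

theorem form_single_inl_left (u : Fin m ⊕ Fin m → F) (i : Fin m) :
    sympForm m F (Pi.single (.inl i) 1) u = - u (.inr i) := by
  rw [form_swap, form_single_inl_right]

theorem form_single_inr_left (u : Fin m ⊕ Fin m → F) (i : Fin m) :
    sympForm m F (Pi.single (.inr i) 1) u = u (.inl i) := by
  rw [form_swap, form_single_inr_right, neg_neg]

theorem eq_zero_of_form_left {u : Fin m ⊕ Fin m → F} (h : ∀ v, sympForm m F u v = 0) :
    u = 0 := by
  funext i
  cases i with
  | inl i => simpa [form_single_inr_right] using h (Pi.single (.inr i) 1)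
  | inr i => simpa [form_single_inl_right] using h (Pi.single (.inl i) 1)

theorem eq_zero_of_form_right {v : Fin m ⊕ Fin m → F} (h : ∀ u, sympForm m F u v = 0) :
    v = 0 :=
  eq_zero_of_form_left fun u => by rw [form_swap, h, neg_zero]

theorem eq_of_form_left {u u' : Fin m ⊕ Fin m → F}
    (h : ∀ v, sympForm m F u v = sympForm m F u' v) : u = u' :=
  sub_eq_zero.1 <| eq_zero_of_form_left fun v => by rw [form_sub_left, h, sub_self]

theorem eq_of_form_right {v v' : Fin m ⊕ Fin m → F}
    (h : ∀ u, sympForm m F u v = sympForm m F u v') : v = v' :=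
  sub_eq_zero.1 <| eq_zero_of_form_right fun u => by rw [form_sub_right, h, sub_self]

theorem form_mulVec_mulVec (A : Matrix (Fin m ⊕ Fin m) (Fin m ⊕ Fin m) F)
    (u v : Fin m ⊕ Fin m → F) :
    sympForm m F (A *ᵥ u) (A *ᵥ v) = u ⬝ᵥ ((Aᵀ * Matrix.J (Fin m) F * A) *ᵥ v) := by
  unfold sympForm
  rw [← Matrix.mulVec_mulVec, ← Matrix.mulVec_mulVec, Matrix.dotProduct_mulVec u,
    Matrix.vecMul_transpose]

theorem mem_sp_iff {A : Matrix (Fin m ⊕ Fin m) (Fin m ⊕ Fin m) F} :
    A ∈ Matrix.symplecticGroup (Fin m) F ↔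
      ∀ u v, sympForm m F (A *ᵥ u) (A *ᵥ v) = sympForm m F u v := by
  rw [SymplecticGroup.mem_iff']
  constructor
  · intro h u v
    rw [form_mulVec_mulVec, h]; rfl
  · intro h
    ext i j
    have := h (Pi.single i 1) (Pi.single j 1)
    rw [form_mulVec_mulVec] at this
    simpa [sympForm] using this

theorem form_sp (A : Matrix.symplecticGroup (Fin m) F) (u v : Fin m ⊕ Fin m → F) :
    sympForm m F (A.1 *ᵥ u) (A.1 *ᵥ v) = sympForm m F u v :=
  mem_sp_iff.1 A.2 u v

theorem sp_ext {A B : Matrix.symplecticGroup (Fin m) F} (h : ∀ v, A.1 *ᵥ v = B.1 *ᵥ v) :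
    A = B := by
  apply Subtype.ext
  ext i j
  simpa using congrFun (h (Pi.single j 1)) i

theorem sp_mul_mulVec (A B : Matrix.symplecticGroup (Fin m) F) (v : Fin m ⊕ Fin m → F) :
    (A * B).1 *ᵥ v = A.1 *ᵥ (B.1 *ᵥ v) := by
  simp [Matrix.mulVec_mulVec]

theorem sp_one_mulVec (v : Fin m ⊕ Fin m → F) :
    (1 : Matrix.symplecticGroup (Fin m) F).1 *ᵥ v = v := by
  simp

theorem sp_inv_mulVec_mulVec (A : Matrix.symplecticGroup (Fin m) F) (v : Fin m ⊕ Fin m → F) :
    (A⁻¹).1 *ᵥ (A.1 *ᵥ v) = v := by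
  rw [← sp_mul_mulVec, inv_mul_cancel, sp_one_mulVec]

theorem sp_mulVec_inv_mulVec (A : Matrix.symplecticGroup (Fin m) F) (v : Fin m ⊕ Fin m → F) :
    A.1 *ᵥ ((A⁻¹).1 *ᵥ v) = v := by
  rw [← sp_mul_mulVec, mul_inv_cancel, sp_one_mulVec]

theorem sp_mulVec_injective (A : Matrix.symplecticGroup (Fin m) F) :
    Function.Injective (fun v : Fin m ⊕ Fin m → F => A.1 *ᵥ v) := fun u v h => by
  have h' : A.1 *ᵥ u = A.1 *ᵥ v := h
  rw [← sp_inv_mulVec_mulVec A u, h', sp_inv_mulVec_mulVec]

theorem sp_mulVec_ne_zero (A : Matrix.symplecticGroup (Fin m) F) {v : Fin m ⊕ Fin m → F}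
    (hv : v ≠ 0) : A.1 *ᵥ v ≠ 0 := fun h =>
  hv (sp_mulVec_injective A (by simpa using h))

theorem form_sp_left (A : Matrix.symplecticGroup (Fin m) F) (u v : Fin m ⊕ Fin m → F) :
    sympForm m F (A.1 *ᵥ u) v = sympForm m F u ((A⁻¹).1 *ᵥ v) := by
  rw [← form_sp A u, sp_mulVec_inv_mulVec]

theorem transvection_mulVec (v : Fin m ⊕ Fin m → F) (c : F) (x : Fin m ⊕ Fin m → F) :
    sympTransvection m v c *ᵥ x = x + (c * sympForm m F x v) • v := by
  unfold sympTransvection sympForm
  rw [Matrix.add_mulVec, Matrix.one_mulVec, Matrix.smul_mulVec, Matrix.vecMulVec_mulVec,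
    dotProduct_comm, op_smul_eq_smul, smul_smul]

theorem transvection_mem (v : Fin m ⊕ Fin m → F) (c : F) :
    sympTransvection m v c ∈ Matrix.symplecticGroup (Fin m) F := by
  rw [mem_sp_iff]
  intro x y
  rw [transvection_mulVec, transvection_mulVec]
  simp only [form_add_left, form_add_right, form_smul_left, form_smul_right, form_self]
  rw [form_swap v y]
  ring

/-- The symplectic transvection as an element of the symplectic group. -/
def tv (v : Fin m ⊕ Fin m → F) (c : F) : Matrix.symplecticGroup (Fin m) F :=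
  ⟨sympTransvection m v c, transvection_mem v c⟩

theorem tv_val (v : Fin m ⊕ Fin m → F) (c : F) : (tv v c).1 = sympTransvection m v c := rfl

theorem tv_mulVec (v : Fin m ⊕ Fin m → F) (c : F) (x : Fin m ⊕ Fin m → F) :
    (tv v c).1 *ᵥ x = x + (c * sympForm m F x v) • v :=
  transvection_mulVec v c x

theorem tv_add (v : Fin m ⊕ Fin m → F) (c d : F) : tv v (c + d) = tv v c * tv v d := by
  apply sp_ext
  intro x
  rw [sp_mul_mulVec, tv_mulVec, tv_mulVec, tv_mulVec]
  simp only [form_add_left, form_smul_left, form_self]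
  module

theorem tv_zero (v : Fin m ⊕ Fin m → F) : tv v 0 = 1 := by
  apply sp_ext
  intro x
  rw [tv_mulVec, sp_one_mulVec]
  simp

theorem tv_zero_vec (c : F) : tv (0 : Fin m ⊕ Fin m → F) c = 1 := by
  apply sp_ext
  intro x
  rw [tv_mulVec, sp_one_mulVec]
  simp

theorem tv_neg (v : Fin m ⊕ Fin m → F) (c : F) : tv v (-c) = (tv v c)⁻¹ := by
  rw [eq_inv_iff_mul_eq_one, ← tv_add, neg_add_cancel, tv_zero]

theorem tv_smul (a : F) (v : Fin m ⊕ Fin m → F) (c : F) : tv (a • v) c = tv v (a ^ 2 * c) := by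
  apply sp_ext
  intro x
  rw [tv_mulVec, tv_mulVec, form_smul_right]
  module

theorem conj_tv (A : Matrix.symplecticGroup (Fin m) F) (v : Fin m ⊕ Fin m → F) (c : F) :
    A * tv v c * A⁻¹ = tv (A.1 *ᵥ v) c := by
  rw [mul_inv_eq_iff_eq_mul]
  apply sp_ext
  intro x
  rw [sp_mul_mulVec, sp_mul_mulVec, tv_mulVec, tv_mulVec, form_sp, Matrix.mulVec_add,
    Matrix.mulVec_smul]

theorem tv_comm {u v : Fin m ⊕ Fin m → F} (h : sympForm m F u v = 0) (c d : F) :
    tv u c * tv v d = tv v d * tv u c := by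
  have h' : sympForm m F v u = 0 := by rw [form_swap, h, neg_zero]
  apply sp_ext
  intro x
  simp only [sp_mul_mulVec, tv_mulVec, form_add_left, form_smul_left, h, h']
  module

/-- The scalar matrix `-1` as an element of the symplectic group. -/
def negOne (m : ℕ) (F : Type*) [CommRing F] : Matrix.symplecticGroup (Fin m) F :=
  ⟨-1, SymplecticGroup.neg_mem (one_mem _)⟩

theorem negOne_mulVec (x : Fin m ⊕ Fin m → F) : (negOne m F).1 *ᵥ x = -x := by
  simp [negOne, Matrix.neg_mulVec]

theorem negOne_mem_center : negOne m F ∈ Subgroup.center (Matrix.symplecticGroup (Fin m) F) := by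
  rw [Subgroup.mem_center_iff]
  intro g
  apply Subtype.ext
  simp [negOne]

end Ring

section Field

variable {m : ℕ} {F : Type*} [Field F]

theorem exists_form_ne_zero {u : Fin m ⊕ Fin m → F} (hu : u ≠ 0) :
    ∃ v, sympForm m F u v ≠ 0 := by
  by_contra h
  push Not at h
  exact hu (eq_zero_of_form_left h)

theorem exists_form_eq_one {u : Fin m ⊕ Fin m → F} (hu : u ≠ 0) :
    ∃ v, sympForm m F u v = 1 := by
  obtain ⟨v, hv⟩ := exists_form_ne_zero hu
  exact ⟨(sympForm m F u v)⁻¹ • v, by rw [form_smul_right, inv_mul_cancel₀ hv]⟩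

/-- An element of `Sp` that fixes every line is `1` or `-1`. -/
theorem eq_one_or_negOne_of_forall_smul (A : Matrix.symplecticGroup (Fin m) F)
    (h : ∀ v : Fin m ⊕ Fin m → F, ∃ a : F, A.1 *ᵥ v = a • v) : A = 1 ∨ A = negOne m F := by
  rcases Nat.eq_zero_or_pos m with rfl | hm
  · left
    apply sp_ext
    intro v
    exact Subsingleton.elim _ _
  have hsc : ∃ a : F, ∀ v : Fin m ⊕ Fin m → F, A.1 *ᵥ v = a • v := by
    have := LinearMap.exists_eq_smul_id_of_forall_notLinearIndependent
      (f := Matrix.toLin' A.1) (fun v => by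
        obtain ⟨a, ha⟩ := h v
        rw [LinearIndependent.pair_iff]
        intro hh
        have := hh a (-1) (by simp [ha])
        simp at this)
    obtain ⟨a, ha⟩ := this
    refine ⟨a, fun v => ?_⟩
    have := LinearMap.congr_fun ha v
    simpa using this
  obtain ⟨a, ha⟩ := hsc
  have i0 : Fin m := ⟨0, hm⟩
  have h1 := form_sp A (Pi.single (.inr i0) 1) (Pi.single (.inl i0) 1)
  rw [ha, ha, form_smul_left, form_smul_right, form_single_inl_right] at h1
  simp only [Pi.single_eq_same, mul_one] at h1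
  rcases mul_self_eq_one_iff.1 h1 with rfl | rfl
  · left
    apply sp_ext
    intro v
    rw [ha, sp_one_mulVec, one_smul]
  · right
    apply sp_ext
    intro v
    rw [ha, negOne_mulVec, neg_one_smul]

theorem mem_center_iff {A : Matrix.symplecticGroup (Fin m) F} :
    A ∈ Subgroup.center (Matrix.symplecticGroup (Fin m) F) ↔ A = 1 ∨ A = negOne m F := by
  constructor
  · intro hA
    apply eq_one_or_negOne_of_forall_smul
    intro v
    by_cases hv : v = 0
    · exact ⟨0, by simp [hv]⟩
    obtain ⟨w, hw⟩ := exists_form_eq_one hv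
    have h1 := (Subgroup.mem_center_iff.1 hA) (tv v 1)
    have h2 : (tv v 1 * A).1 *ᵥ w = (A * tv v 1).1 *ᵥ w := by rw [h1]
    rw [sp_mul_mulVec, sp_mul_mulVec, tv_mulVec, tv_mulVec, Matrix.mulVec_add,
      Matrix.mulVec_smul, form_swap w v, hw] at h2
    refine ⟨-(sympForm m F (A.1 *ᵥ w) v), ?_⟩
    have h3 := add_left_cancel h2
    simp only [one_mul, neg_smul, one_smul] at h3
    rw [neg_smul, h3, neg_neg]
  · rintro (rfl | rfl)
    · exact one_mem _
    · exact negOne_mem_center

theorem negOne_ne_one (hm : 1 ≤ m) (h2 : (2 : F) ≠ 0) : negOne m F ≠ 1 := by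
  intro h
  have i0 : Fin m := ⟨0, hm⟩
  have h1 : (negOne m F).1 *ᵥ (Pi.single (.inl i0) 1) =
      (1 : Matrix.symplecticGroup (Fin m) F).1 *ᵥ (Pi.single (.inl i0) 1) := by rw [h]
  rw [negOne_mulVec, sp_one_mulVec] at h1
  have h3 := congrFun h1 (.inl i0)
  simp only [Pi.neg_apply, Pi.single_eq_same] at h3
  apply h2
  linear_combination -h3

theorem negOne_eq_one (h2 : (2 : F) = 0) : negOne m F = 1 := by
  apply sp_ext
  intro v
  rw [negOne_mulVec, sp_one_mulVec, neg_eq_iff_add_eq_zero, ← two_smul F, h2, zero_smul]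

end Field

end CL.SpG
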