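import Cfsg.Agent.SpG.Basic

/-! Counting hyperbolic pairs and symplectic frames; the order of the symplectic group. -/

set_option autoImplicit false

namespace CL.SpG

open Matrix Cfsg

section Abstract

variable {F V : Type*} [Field F] [AddCommGroup V] [Module F V]

/-- Fibres of a non-zero linear functional on a finite submodule all have `|W| / |F|` points. -/
theorem card_fiber_mul [Finite F] [Finite V] (W : Submodule F V) (φ : V →ₗ[F] F)
    (hφ : ∃ w ∈ W, φ w ≠ 0) (c : F) :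
    Nat.card {w : V // w ∈ W ∧ φ w = c} * Nat.card F = Nat.card W := by
  obtain ⟨w0, hw0, hne⟩ := hφ
  rw [← Nat.card_prod]
  refine Nat.card_congr
    { toFun := fun p => ⟨p.1.1 + ((p.2 - c) / φ w0) • w0, W.add_mem p.1.2.1 (W.smul_mem _ hw0)⟩
      invFun := fun w => (⟨w.1 - ((φ w.1 - c) / φ w0) • w0,
        W.sub_mem w.2 (W.smul_mem _ hw0), by
          rw [map_sub, map_smul, smul_eq_mul, div_mul_cancel₀ _ hne]; ring⟩, φ w.1)
      left_inv := ?_
      right_inv := ?_ }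
  · rintro ⟨⟨w, hw, hc⟩, t⟩
    have h1 : φ (w + ((t - c) / φ w0) • w0) = t := by
      rw [map_add, map_smul, smul_eq_mul, div_mul_cancel₀ _ hne, hc]; ring
    ext
    · simp only [h1]
      module
    · exact h1
  · rintro ⟨w, hw⟩
    ext
    simp

variable (B : LinearMap.BilinForm F V)

/-- `B` restricted to `W` is non-degenerate. -/
def NondegOn (W : Submodule F V) : Prop := ∀ x ∈ W, x ≠ 0 → ∃ y ∈ W, B x y ≠ 0

/-- The vectors of `W` orthogonal to `x` and `y`. -/
def perpPair (W : Submodule F V) (x y : V) : Submodule F V :=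
  W ⊓ LinearMap.ker (B x) ⊓ LinearMap.ker (B y)

theorem mem_perpPair {W : Submodule F V} {x y z : V} :
    z ∈ perpPair B W x y ↔ z ∈ W ∧ B x z = 0 ∧ B y z = 0 := by
  simp [perpPair, and_assoc]

variable {B}

theorem alt_swap (hA : B.IsAlt) (x y : V) : B x y = - B y x := (hA.neg_eq y x).symm

theorem nondegOn_perpPair (hA : B.IsAlt) {W : Submodule F V} (hW : NondegOn B W) {x y : V}
    (hx : x ∈ W) (hy : y ∈ W) (hxy : B x y = 1) : NondegOn B (perpPair B W x y) := by
  intro z hz hz0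
  rw [mem_perpPair] at hz
  obtain ⟨w, hw, hzw⟩ := hW z hz.1 hz0
  have hyx : B y x = -1 := by rw [alt_swap hA, hxy]
  have hxx : B x x = 0 := hA x
  have hyy : B y y = 0 := hA y
  refine ⟨w - B x w • y + B y w • x, ?_, ?_⟩
  · rw [mem_perpPair]
    refine ⟨W.add_mem (W.sub_mem hw (W.smul_mem _ hy)) (W.smul_mem _ hx), ?_, ?_⟩
    · simp [hxy, hxx]
    · simp [hyx, hyy]
  · have h1 : B z x = 0 := by rw [alt_swap hA, hz.2.1, neg_zero]
    have h2 : B z y = 0 := by rw [alt_swap hA, hz.2.2, neg_zero]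
    simpa [h1, h2] using hzw

theorem card_perpPair [Finite F] [Finite V] (hA : B.IsAlt) {W : Submodule F V} {x y : V}
    (hx : x ∈ W) (hy : y ∈ W) (hxy : B x y = 1) :
    Nat.card (perpPair B W x y) * Nat.card F ^ 2 = Nat.card W := by
  have hyx : B y x = -1 := by rw [alt_swap hA, hxy]
  have h1 := card_fiber_mul W (B x) ⟨y, hy, by simp [hxy]⟩ 0
  have h2 := card_fiber_mul (W ⊓ LinearMap.ker (B x)) (B y)
    ⟨x, ⟨hx, hA x⟩, by simp [hyx]⟩ 0
  have h3 : Nat.card {w : V // w ∈ W ∧ B x w = 0} = Nat.card ↥(W ⊓ LinearMap.ker (B x)) :=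
    Nat.card_congr (Equiv.subtypeEquivRight fun w => by simp)
  have h4 : Nat.card {w : V // w ∈ W ⊓ LinearMap.ker (B x) ∧ B y w = 0} =
      Nat.card (perpPair B W x y) :=
    Nat.card_congr (Equiv.subtypeEquivRight fun w => by simp [mem_perpPair, and_assoc])
  rw [← h1, h3, ← h2, h4]
  ring

/-- The number of hyperbolic pairs in a non-degenerate subspace with `q ^ (n + 1)` elements. -/
theorem card_hypPairs [Finite F] [Finite V] {W : Submodule F V} (hW : NondegOn B W) {n : ℕ}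
    (hn : Nat.card W = Nat.card F ^ (n + 1)) :
    Nat.card {p : V × V // p.1 ∈ W ∧ p.2 ∈ W ∧ B p.1 p.2 = 1} =
      (Nat.card F ^ (n + 1) - 1) * Nat.card F ^ n := by
  classical
  have e : {p : V × V // p.1 ∈ W ∧ p.2 ∈ W ∧ B p.1 p.2 = 1} ≃
      Σ x : {x : V // x ∈ W ∧ x ≠ 0}, {y : V // y ∈ W ∧ B x.1 y = 1} :=
    { toFun := fun p => ⟨⟨p.1.1, p.2.1, by
        intro h
        have := p.2.2.2
        simp [h] at this⟩, ⟨p.1.2, p.2.2.1, p.2.2.2⟩⟩
      invFun := fun s => ⟨(s.1.1, s.2.1), s.1.2.1, s.2.2.1, s.2.2.2⟩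
      left_inv := fun _ => rfl
      right_inv := fun _ => rfl }
  have := Fintype.ofFinite V
  rw [Nat.card_congr e, Nat.card_sigma]
  have hq : 0 < Nat.card F := Nat.card_pos
  have hfib : ∀ x : {x : V // x ∈ W ∧ x ≠ 0},
      Nat.card {y : V // y ∈ W ∧ B x.1 y = 1} = Nat.card F ^ n := by
    intro x
    have := card_fiber_mul W (B x.1) (hW x.1 x.2.1 x.2.2) 1
    rw [hn, pow_succ] at this
    exact Nat.eq_of_mul_eq_mul_right hq this
  rw [Finset.sum_congr rfl fun x _ => hfib x, Finset.sum_const, Finset.card_univ, smul_eq_mul,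
    ← Nat.card_eq_fintype_card]
  congr 1
  rw [← hn]
  have e2 : {x : V // x ∈ W ∧ x ≠ 0} ≃ {x : W // x ≠ 0} :=
    { toFun := fun x => ⟨⟨x.1, x.2.1⟩, fun h => x.2.2 (congrArg Subtype.val h)⟩
      invFun := fun x => ⟨x.1.1, x.1.2, fun h => x.2 (Subtype.ext h)⟩
      left_inv := fun _ => rfl
      right_inv := fun _ => rfl }
  rw [Nat.card_congr e2, Nat.card_eq_fintype_card, Nat.card_eq_fintype_card,
    Fintype.card_subtype_compl, Fintype.card_subtype_eq]

variable (B) in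
/-- A symplectic `k`-frame inside `W`. -/
def IsFrame (W : Submodule F V) {k : ℕ} (p : (Fin k → V) × (Fin k → V)) : Prop :=
  (∀ i, p.1 i ∈ W) ∧ (∀ i, p.2 i ∈ W) ∧ (∀ i j, B (p.1 i) (p.1 j) = 0) ∧
    (∀ i j, B (p.2 i) (p.2 j) = 0) ∧ ∀ i j, B (p.1 i) (p.2 j) = if i = j then 1 else 0

theorem isFrame_cons_iff (hA : B.IsAlt) (W : Submodule F V) {k : ℕ} (x y : V)
    (e f : Fin k → V) :
    IsFrame B W (k := k + 1) (Fin.cons x e, Fin.cons y f) ↔
      (x ∈ W ∧ y ∈ W ∧ B x y = 1) ∧ IsFrame B (perpPair B W x y) (e, f) := by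
  have hxx : B x x = 0 := hA x
  have hyy : B y y = 0 := hA y
  simp only [IsFrame, Fin.forall_fin_succ, Fin.cons_zero, Fin.cons_succ, mem_perpPair, if_true,
    Fin.succ_inj, (Fin.succ_ne_zero _).symm, Fin.succ_ne_zero, if_false]
  constructor
  · rintro ⟨⟨h1, h2⟩, ⟨h3, h4⟩, ⟨⟨-, h5⟩, h6⟩, ⟨⟨-, h7⟩, h8⟩, ⟨h9, h10⟩, h11⟩
    refine ⟨⟨h1, h3, h9⟩, fun i => ⟨h2 i, h5 i, ?_⟩, fun i => ⟨h4 i, h10 i, h7 i⟩,
      fun i => (h6 i).2, fun i => (h8 i).2, fun i => (h11 i).2⟩
    rw [alt_swap hA, (h11 i).1, neg_zero]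
  · rintro ⟨⟨h1, h3, h9⟩, h2, h4, h6, h8, h11⟩
    refine ⟨⟨h1, fun i => (h2 i).1⟩, ⟨h3, fun i => (h4 i).1⟩,
      ⟨⟨hxx, fun i => (h2 i).2.1⟩, fun i => ⟨?_, h6 i⟩⟩,
      ⟨⟨hyy, fun i => (h4 i).2.2⟩, fun i => ⟨?_, h8 i⟩⟩,
      ⟨h9, fun i => (h4 i).2.1⟩, fun i => ⟨?_, h11 i⟩⟩
    · rw [alt_swap hA, (h2 i).2.1, neg_zero]
    · rw [alt_swap hA, (h4 i).2.2, neg_zero]
    · rw [alt_swap hA, (h2 i).2.2, neg_zero]

/-- The number of symplectic `k`-frames in a non-degenerate subspace of dimension `2 (k + r)`. -/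
theorem card_frames [Finite F] [Finite V] (hA : B.IsAlt) (r : ℕ) :
    ∀ (k : ℕ) (W : Submodule F V), NondegOn B W → Nat.card W = Nat.card F ^ (2 * (k + r)) →
      Nat.card {p : (Fin k → V) × (Fin k → V) // IsFrame B W p} =
        ∏ i ∈ Finset.range k,
          ((Nat.card F ^ (2 * (i + r + 1)) - 1) * Nat.card F ^ (2 * (i + r) + 1)) := by
  classical
  intro k
  induction k with
  | zero =>
    intro W _ _
    rw [Finset.range_zero, Finset.prod_empty, Nat.card_eq_one_iff_unique]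
    refine ⟨⟨fun a b => Subtype.ext (Subsingleton.elim _ _)⟩, ⟨⟨(fun i => i.elim0, fun i => i.elim0),
      ?_⟩⟩⟩
    simp [IsFrame]
  | succ k ih =>
    intro W hW hn
    have e : {p : (Fin (k + 1) → V) × (Fin (k + 1) → V) // IsFrame B W p} ≃
        Σ h : {p : V × V // p.1 ∈ W ∧ p.2 ∈ W ∧ B p.1 p.2 = 1},
          {p : (Fin k → V) × (Fin k → V) // IsFrame B (perpPair B W h.1.1 h.1.2) p} :=
      Equiv.symm <| Equiv.ofBijective
        (fun s => ⟨(Fin.cons s.1.1.1 s.2.1.1, Fin.cons s.1.1.2 s.2.1.2),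
          (isFrame_cons_iff hA W _ _ _ _).2 ⟨s.1.2, s.2.2⟩⟩)
        ⟨by
          rintro ⟨⟨⟨x, y⟩, h1⟩, ⟨⟨e, f⟩, h2⟩⟩ ⟨⟨⟨x', y'⟩, h1'⟩, ⟨⟨e', f'⟩, h2'⟩⟩ h
          simp only [Subtype.mk.injEq, Prod.mk.injEq, Fin.cons_inj] at h
          obtain ⟨⟨rfl, rfl⟩, rfl, rfl⟩ := h
          rfl, by
          rintro ⟨⟨e, f⟩, h⟩
          have h' : IsFrame B W (k := k + 1)
              (Fin.cons (e 0) (Fin.tail e), Fin.cons (f 0) (Fin.tail f)) := by
            simpa using h
          rw [isFrame_cons_iff hA] at h'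
          exact ⟨⟨⟨(e 0, f 0), h'.1⟩, ⟨(Fin.tail e, Fin.tail f), h'.2⟩⟩, by simp⟩⟩
    have := Fintype.ofFinite V
    have hq : 0 < Nat.card F := Nat.card_pos
    rw [Nat.card_congr e, Nat.card_sigma]
    have hfib : ∀ h : {p : V × V // p.1 ∈ W ∧ p.2 ∈ W ∧ B p.1 p.2 = 1},
        Nat.card {p : (Fin k → V) × (Fin k → V) // IsFrame B (perpPair B W h.1.1 h.1.2) p} =
          ∏ i ∈ Finset.range k,
            ((Nat.card F ^ (2 * (i + r + 1)) - 1) * Nat.card F ^ (2 * (i + r) + 1)) := by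
      rintro ⟨⟨x, y⟩, hx, hy, hxy⟩
      apply ih _ (nondegOn_perpPair hA hW hx hy hxy)
      have := card_perpPair hA hx hy hxy
      rw [hn, show 2 * (k + 1 + r) = 2 * (k + r) + 2 by ring, pow_add] at this
      exact Nat.eq_of_mul_eq_mul_right (pow_pos hq 2) this
    rw [Finset.sum_congr rfl fun x _ => hfib x, Finset.sum_const, Finset.card_univ, smul_eq_mul,
      ← Nat.card_eq_fintype_card, card_hypPairs hW (n := 2 * (k + r) + 1)
        (by rw [hn]; congr 1; ring), Finset.prod_range_succ, mul_comm]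
    rfl

end Abstract

variable {m : ℕ} {F : Type*} [Field F]

theorem mem_sp_iff_isFrame {A : Matrix (Fin m ⊕ Fin m) (Fin m ⊕ Fin m) F} :
    A ∈ Matrix.symplecticGroup (Fin m) F ↔
      IsFrame (sympB m F) ⊤ (fun i => fun k => A k (.inr i), fun i => fun k => A k (.inl i)) := by
  have hcol : ∀ j, (fun k => A k j) = A *ᵥ Pi.single j 1 := by
    intro j; funext k; simp
  simp only [IsFrame, Submodule.mem_top, implies_true, true_and, sympB_apply, hcol]
  constructor
  · intro h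
    rw [mem_sp_iff] at h
    simp only [h, form_single_inl_right, form_single_inr_right]
    refine ⟨fun i j => by simp, fun i j => by simp, fun i j => by simp [Pi.single_apply, eq_comm]⟩
  · rintro ⟨h1, h2, h3⟩
    rw [SymplecticGroup.mem_iff']
    ext i j
    have := form_mulVec_mulVec A (Pi.single i 1) (Pi.single j 1)
    simp only [mulVec_single, MulOpposite.op_one, one_smul, single_dotProduct, one_mul,
      col_apply] at this
    rw [← this]
    simp only [mulVec_single, MulOpposite.op_one, one_smul] at h1 h2 h3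
    rcases i with i | i <;> rcases j with j | j
    · simp [h2, Matrix.J]
    · rw [form_swap, h3]
      simp [Matrix.J, Matrix.one_apply, eq_comm]
    · simp [h3, Matrix.J, Matrix.one_apply]
    · simp [h1, Matrix.J]

theorem card_sp_aux (q m : ℕ) :
    ∏ i ∈ Finset.range m, ((q ^ (2 * (i + 0 + 1)) - 1) * q ^ (2 * (i + 0) + 1)) =
      q ^ (m ^ 2) * ∏ i ∈ Finset.range m, (q ^ (2 * (i + 1)) - 1) := by
  induction m with
  | zero => simp
  | succ m ih =>
    rw [Finset.prod_range_succ, Finset.prod_range_succ, ih]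
    simp only [add_zero]
    ring

/-- The order of the finite symplectic group. -/
theorem card_sp [Finite F] (m : ℕ) :
    Nat.card (Matrix.symplecticGroup (Fin m) F) =
      Nat.card F ^ (m ^ 2) * ∏ i ∈ Finset.range m, (Nat.card F ^ (2 * (i + 1)) - 1) := by
  have e : Matrix.symplecticGroup (Fin m) F ≃
      {p : (Fin m → Fin m ⊕ Fin m → F) × (Fin m → Fin m ⊕ Fin m → F) //
        IsFrame (sympB m F) ⊤ p} :=
    { toFun := fun A => ⟨_, mem_sp_iff_isFrame.1 A.2⟩
      invFun := fun p => ⟨Matrix.of fun k j => Sum.elim (fun i => p.1.2 i k) (fun i => p.1.1 i k) j,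
        mem_sp_iff_isFrame.2 p.2⟩
      left_inv := fun A => by
        ext k j
        cases j <;> rfl
      right_inv := fun p => rfl }
  rw [Nat.card_congr e, card_frames sympB_isAlt 0 m ⊤, card_sp_aux]
  · intro x _ hx
    obtain ⟨y, hy⟩ := exists_form_ne_zero hx
    exact ⟨y, trivial, by rwa [sympB_apply]⟩
  · rw [Nat.card_congr (Submodule.topEquiv).toEquiv, Nat.card_fun]
    simp [two_mul]

end CL.SpG
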