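import Cfsg.Agent.SpG.Basic

/-! Transport of symplectic groups along ring homomorphisms and isomorphisms. -/

set_option autoImplicit false

namespace CL.SpG

open Matrix Cfsg

variable {l : Type*} [Fintype l] [DecidableEq l] {R S : Type*} [CommRing R] [CommRing S]

/-- The map of symplectic groups induced by a ring homomorphism. -/
def spMap (l : Type*) [Fintype l] [DecidableEq l] (f : R →+* S) :
    Matrix.symplecticGroup l R →* Matrix.symplecticGroup l S where
  toFun A := ⟨A.1.map f, SymplecticGroup.map_mem A.2 f⟩
  map_one' := Subtype.ext (by simp)
  map_mul' A B := Subtype.ext (by simp)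

theorem spMap_val (f : R →+* S) (A : Matrix.symplecticGroup l R) :
    (spMap l f A).1 = A.1.map f := rfl

theorem spMap_injective {f : R →+* S} (hf : Function.Injective f) :
    Function.Injective (spMap l f) := fun _ _ h =>
  Subtype.ext (Matrix.map_injective hf (congrArg Subtype.val h))

/-- The isomorphism of symplectic groups induced by a ring isomorphism. -/
def spCongr (l : Type*) [Fintype l] [DecidableEq l] (e : R ≃+* S) :
    Matrix.symplecticGroup l R ≃* Matrix.symplecticGroup l S :=
  MonoidHom.toMulEquiv (spMap l e.toRingHom) (spMap l e.symm.toRingHom)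
    (by ext A i j; simp [spMap_val]) (by ext A i j; simp [spMap_val])

theorem spCongr_val (e : R ≃+* S) (A : Matrix.symplecticGroup l R) :
    (spCongr l e A).1 = A.1.map e := rfl

/-- An isomorphism of groups induces an isomorphism of the quotients by the centres. -/
noncomputable def quotCenterCongr {G H : Type*} [Group G] [Group H] (e : G ≃* H) :
    G ⧸ Subgroup.center G ≃* H ⧸ Subgroup.center H :=
  QuotientGroup.congr _ _ e (by
    ext y
    simp only [Subgroup.mem_map]
    constructor
    · rintro ⟨x, hx, rfl⟩
      rw [Subgroup.mem_center_iff] at hx ⊢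
      intro g
      obtain ⟨g, rfl⟩ := e.surjective g
      simpa using congrArg e (hx g)
    · intro hy
      refine ⟨e.symm y, ?_, by simp⟩
      rw [Subgroup.mem_center_iff] at hy ⊢
      intro g
      apply e.injective
      simpa using hy (e g))

theorem quotCenterCongr_mk {G H : Type*} [Group G] [Group H] (e : G ≃* H) (x : G) :
    quotCenterCongr e (QuotientGroup.mk x) = QuotientGroup.mk (e x) := rfl

/-- The isomorphism of projective symplectic groups induced by a field isomorphism. -/
noncomputable def pspCongr (m : ℕ) {F K : Type*} [Field F] [Field K] (e : F ≃+* K) :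
    Cfsg.PSp m F ≃* Cfsg.PSp m K :=
  quotCenterCongr (spCongr (Fin m) e)

end CL.SpG
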