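import Cfsg.Agent.SpG.Trans
import Cfsg.Agent.S0765

/-! Perfectness of the symplectic group. -/

set_option autoImplicit false

namespace CL.SpG

open Matrix Cfsg

variable {m : ℕ} {F : Type*} [Field F]

/-- A subgroup containing all transvections is everything. -/
theorem eq_top_of_tv_mem (H : Subgroup (Matrix.symplecticGroup (Fin m) F))
    (h : ∀ v c, v ≠ 0 → tv v c ∈ H) : H = ⊤ := by
  rw [eq_top_iff, ← Cfsg.Agent.S0765.result (F := F) m, Subgroup.closure_le]
  rintro A ⟨w, c, hA⟩
  have : A = tv w c := Subtype.ext hA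
  by_cases hw : w = 0
  · rw [this, hw, tv_zero_vec]; exact one_mem _
  · rw [this]; exact h w c hw

theorem hom_tv_eq {A : Type*} [CommGroup A] (φ : Matrix.symplecticGroup (Fin m) F →* A)
    {v w : Fin m ⊕ Fin m → F} (hv : v ≠ 0) (hw : w ≠ 0) (c : F) :
    φ (tv v c) = φ (tv w c) := by
  obtain ⟨g, rfl⟩ := exists_sp_mulVec_eq hv hw
  rw [← conj_tv, map_mul, map_mul, map_inv, mul_inv_cancel_comm]

theorem hom_tv_eq_one_of_sq_ne_one {A : Type*} [CommGroup A]
    (φ : Matrix.symplecticGroup (Fin m) F →* A) {b : F} (hb0 : b ≠ 0) (hb : b ^ 2 ≠ 1)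
    {v : Fin m ⊕ Fin m → F} (hv : v ≠ 0) (c : F) : φ (tv v c) = 1 := by
  have h1 := hom_tv_eq φ (smul_ne_zero hb0 hv) hv (c / (b ^ 2 - 1))
  rw [tv_smul] at h1
  have h2 : c = b ^ 2 * (c / (b ^ 2 - 1)) + -(c / (b ^ 2 - 1)) := by
    have := sub_ne_zero.2 hb
    field_simp
    ring
  rw [h2, tv_add, map_mul, h1, tv_neg, map_inv, mul_inv_cancel]

theorem single_add_ne_zero {ι : Type*} [DecidableEq ι] {i : ι} (x : ι → F) (hx : x i = 0) :
    (Pi.single i 1 : ι → F) + x ≠ 0 := by
  intro h
  have := congrFun h i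
  simp [hx] at this

theorem hom_tv_eq_one_of_two_ne_zero {A : Type*} [CommGroup A]
    (φ : Matrix.symplecticGroup (Fin m) F →* A) (hm : 2 ≤ m) (h2 : (2 : F) ≠ 0)
    {v : Fin m ⊕ Fin m → F} (hv : v ≠ 0) (c : F) : φ (tv v c) = 1 := by
  let i : Fin m := ⟨0, by omega⟩
  let j : Fin m := ⟨1, by omega⟩
  have hij : i ≠ j := by simp [i, j]
  let x : Fin m ⊕ Fin m → F := Pi.single (.inl i) 1
  let y : Fin m ⊕ Fin m → F := Pi.single (.inl j) 1
  have hxy : sympForm m F x y = 0 := by simp [x, y, form_single_inl_right]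
  have hyx : sympForm m F y x = 0 := by rw [form_swap, hxy, neg_zero]
  have hx : x ≠ 0 := by simp [x]
  have hy : y ≠ 0 := by simp [y]
  have hs : x + y ≠ 0 := single_add_ne_zero y (by simp [y, hij])
  have hd : x + -y ≠ 0 := single_add_ne_zero (-y) (by simp [y, hij])
  have key : ∀ d : F, tv (x + y) d * tv (x + -y) d = tv x d * tv x d * (tv y d * tv y d) := by
    intro d
    apply sp_ext
    intro z
    simp only [sp_mul_mulVec, tv_mulVec, form_add_left, form_add_right, form_smul_left,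
      form_neg_left, form_neg_right, form_self, hxy, hyx]
    module
  have h3 := congrArg φ (key (c / 2))
  simp only [map_mul, hom_tv_eq φ hs hv, hom_tv_eq φ hd hv, hom_tv_eq φ hx hv,
    hom_tv_eq φ hy hv] at h3
  have h4 : c = c / 2 + c / 2 := by field_simp; ring
  rw [h4, tv_add, map_mul]
  exact (left_eq_mul.1 h3)

theorem hom_tv_eq_one_of_three_le {A : Type*} [CommGroup A]
    (φ : Matrix.symplecticGroup (Fin m) F →* A) (hm : 3 ≤ m)
    {v : Fin m ⊕ Fin m → F} (hv : v ≠ 0) (c : F) : φ (tv v c) = 1 := by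
  let i : Fin m := ⟨0, by omega⟩
  let j : Fin m := ⟨1, by omega⟩
  let k : Fin m := ⟨2, by omega⟩
  have hij : i ≠ j := by simp [i, j]
  have hik : i ≠ k := by simp [i, k]
  have hjk : j ≠ k := by simp [j, k]
  let x : Fin m ⊕ Fin m → F := Pi.single (.inl i) 1
  let y : Fin m ⊕ Fin m → F := Pi.single (.inl j) 1
  let z : Fin m ⊕ Fin m → F := Pi.single (.inl k) 1
  have hxy : sympForm m F x y = 0 := by simp [x, y, form_single_inl_right]
  have hyx : sympForm m F y x = 0 := by rw [form_swap, hxy, neg_zero]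
  have hxz : sympForm m F x z = 0 := by simp [x, z, form_single_inl_right]
  have hzx : sympForm m F z x = 0 := by rw [form_swap, hxz, neg_zero]
  have hyz : sympForm m F y z = 0 := by simp [y, z, form_single_inl_right]
  have hzy : sympForm m F z y = 0 := by rw [form_swap, hyz, neg_zero]
  have hx : x ≠ 0 := by simp [x]
  have hy : y ≠ 0 := by simp [y]
  have hz : z ≠ 0 := by simp [z]
  have h1 : x + y ≠ 0 := single_add_ne_zero y (by simp [y, hij])
  have h2 : x + z ≠ 0 := single_add_ne_zero z (by simp [z, hik])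
  have h3 : y + z ≠ 0 := single_add_ne_zero z (by simp [z, hjk])
  have h4 : x + (y + z) ≠ 0 := single_add_ne_zero (y + z) (by simp [y, z, hij, hik])
  have key : tv (x + (y + z)) c * (tv x c * (tv y c * tv z c)) =
      tv (x + y) c * (tv (x + z) c * tv (y + z) c) := by
    apply sp_ext
    intro w
    simp only [sp_mul_mulVec, tv_mulVec, form_add_left, form_add_right, form_smul_left,
      form_self, hxy, hyx, hxz, hzx, hyz, hzy]
    module
  have h5 := congrArg φ key
  simp only [map_mul, hom_tv_eq φ h1 hv, hom_tv_eq φ h2 hv, hom_tv_eq φ h3 hv,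
    hom_tv_eq φ h4 hv, hom_tv_eq φ hx hv, hom_tv_eq φ hy hv, hom_tv_eq φ hz hv] at h5
  exact (mul_eq_right.1 h5)

theorem commutator_eq_top_of_hom
    (h : ∀ v c, v ≠ 0 → Abelianization.of (tv (m := m) (F := F) v c) = 1) :
    commutator (Matrix.symplecticGroup (Fin m) F) = ⊤ := by
  apply eq_top_of_tv_mem
  intro v c hv
  rw [← Abelianization.ker_of]
  exact h v c hv

theorem exists_sq_ne_one_of_four_le [Fintype F] (h : 4 ≤ Fintype.card F) :
    ∃ b : F, b ≠ 0 ∧ b ^ 2 ≠ 1 := by
  classical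
  by_contra hcon
  push Not at hcon
  have hsub : (Finset.univ : Finset F) ⊆ {0, 1, -1} := by
    intro b _
    by_cases hb : b = 0
    · simp [hb]
    · rcases mul_self_eq_one_iff.1 ((sq b).symm.trans (hcon b hb)) with h | h <;> simp [h]
  have := Finset.card_le_card hsub
  have h3 : ({0, 1, -1} : Finset F).card ≤ 3 := Finset.card_le_three
  rw [Finset.card_univ] at this
  omega

/-- Perfectness of the symplectic group over an arbitrary field. -/
theorem commutator_eq_top
    (h : 3 ≤ m ∨ (2 ≤ m ∧ (2 : F) ≠ 0) ∨ ∃ b : F, b ≠ 0 ∧ b ^ 2 ≠ 1) :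
    commutator (Matrix.symplecticGroup (Fin m) F) = ⊤ := by
  apply commutator_eq_top_of_hom
  intro v c hv
  rcases h with h | ⟨h, h2⟩ | ⟨b, hb0, hb⟩
  · exact hom_tv_eq_one_of_three_le _ h hv c
  · exact hom_tv_eq_one_of_two_ne_zero _ h h2 hv c
  · exact hom_tv_eq_one_of_sq_ne_one _ hb0 hb hv c

/-- Perfectness of the finite symplectic groups. -/
theorem commutator_eq_top_of_card [Fintype F]
    (h : 3 ≤ m ∨ (m = 2 ∧ 3 ≤ Fintype.card F) ∨ 4 ≤ Fintype.card F) :
    commutator (Matrix.symplecticGroup (Fin m) F) = ⊤ := by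
  apply commutator_eq_top
  rcases h with h | ⟨h, h3⟩ | h4
  · exact Or.inl h
  · by_cases h4 : 4 ≤ Fintype.card F
    · exact Or.inr (Or.inr (exists_sq_ne_one_of_four_le h4))
    · refine Or.inr (Or.inl ⟨h.ge, fun h2 => ?_⟩)
      have hchar : ringChar F = 2 := by
        have : CharP F 2 := (CharP.charP_iff_prime_eq_zero Nat.prime_two).2 (by exact_mod_cast h2)
        exact ringChar.eq F 2
      have heven : Fintype.card F % 2 = 0 := FiniteField.even_card_of_char_two hchar
      omega
  · exact Or.inr (Or.inr (exists_sq_ne_one_of_four_le h4))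

end CL.SpG
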