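import Cfsg.Agent.SpG.Perfect
import Cfsg.Agent.S0768

/-! Simplicity of the projective symplectic group (Iwasawa's criterion). -/

set_option autoImplicit false

namespace CL.SpG

open Matrix Cfsg
open scoped LinearAlgebra.Projectivization Pointwise

variable {m : ℕ} {F : Type*} [Field F]

theorem sp_smul_def (A : Matrix.symplecticGroup (Fin m) F) (v : Fin m ⊕ Fin m → F) :
    A • v = A.1 *ᵥ v := rfl

/-- The group of transvections with centre `v`. -/
def tvGroup (v : Fin m ⊕ Fin m → F) : Subgroup (Matrix.symplecticGroup (Fin m) F) where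
  carrier := {A | ∃ c, A = tv v c}
  mul_mem' := by
    rintro _ _ ⟨c, rfl⟩ ⟨d, rfl⟩
    exact ⟨c + d, (tv_add v c d).symm⟩
  one_mem' := ⟨0, (tv_zero v).symm⟩
  inv_mem' := by
    rintro _ ⟨c, rfl⟩
    exact ⟨-c, (tv_neg v c).symm⟩

theorem mem_tvGroup {v : Fin m ⊕ Fin m → F} {A : Matrix.symplecticGroup (Fin m) F} :
    A ∈ tvGroup v ↔ ∃ c, A = tv v c := Iff.rfl

theorem tvGroup_smul {a : F} (ha : a ≠ 0) (v : Fin m ⊕ Fin m → F) :
    tvGroup (a • v) = tvGroup v := by
  ext A
  simp only [mem_tvGroup, tv_smul]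
  constructor
  · rintro ⟨c, rfl⟩
    exact ⟨_, rfl⟩
  · rintro ⟨c, rfl⟩
    exact ⟨c / a ^ 2, by rw [mul_div_cancel₀ _ (pow_ne_zero 2 ha)]⟩

theorem tvGroup_rep_mk {v : Fin m ⊕ Fin m → F} (hv : v ≠ 0) :
    tvGroup (Projectivization.mk F v hv).rep = tvGroup v := by
  obtain ⟨a, ha⟩ := Projectivization.exists_smul_eq_mk_rep F v hv
  rw [← ha, Units.smul_def, tvGroup_smul a.ne_zero]

theorem conj_smul_tvGroup (g : Matrix.symplecticGroup (Fin m) F) (v : Fin m ⊕ Fin m → F) :
    MulAut.conj g • tvGroup v = tvGroup (g.1 *ᵥ v) := by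
  ext A
  rw [Subgroup.mem_smul_pointwise_iff_exists]
  simp only [mem_tvGroup, MulAut.smul_def, MulAut.conj_apply]
  constructor
  · rintro ⟨_, ⟨c, rfl⟩, rfl⟩
    exact ⟨c, conj_tv g v c⟩
  · rintro ⟨c, rfl⟩
    exact ⟨_, ⟨c, rfl⟩, conj_tv g v c⟩

/-- The Iwasawa structure of the symplectic group acting on projective points. -/
noncomputable def iwasawa (m : ℕ) (F : Type*) [Field F] :
    MulAction.IwasawaStructure (Matrix.symplecticGroup (Fin m) F) (ℙ F (Fin m ⊕ Fin m → F)) where
  T p := tvGroup p.rep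
  is_comm p := ⟨⟨by
    rintro ⟨_, c, rfl⟩ ⟨_, d, rfl⟩
    exact Subtype.ext (tv_comm (form_self _) c d)⟩⟩
  is_conj g p := by
    induction p using Projectivization.ind with
    | h v hv =>
      rw [Projectivization.smul_mk, tvGroup_rep_mk, tvGroup_rep_mk, conj_smul_tvGroup]
      rfl
  is_generator := by
    apply eq_top_of_tv_mem
    intro v c hv
    refine Subgroup.mem_iSup_of_mem (Projectivization.mk F v hv) ?_
    rw [tvGroup_rep_mk]
    exact ⟨c, rfl⟩

theorem isPreprimitive_sp [Finite F] (hm : 1 ≤ m) :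
    MulAction.IsPreprimitive (Matrix.symplecticGroup (Fin m) F) (ℙ F (Fin m ⊕ Fin m → F)) := by
  have := Cfsg.Agent.S0768.result (F := F) m hm
  let φ : Cfsg.spGL m F → Matrix.symplecticGroup (Fin m) F :=
    fun g => ⟨g.1.1, mem_sp_iff.2 g.2⟩
  let f : ℙ F (Fin m ⊕ Fin m → F) →ₑ[φ] ℙ F (Fin m ⊕ Fin m → F) :=
    { toFun := id
      map_smul' := fun g p => by
        induction p using Projectivization.ind with
        | h v hv => rfl }
  exact MulAction.IsPreprimitive.of_surjective (f := f) Function.surjective_id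

theorem mem_center_of_fixes_points {A : Matrix.symplecticGroup (Fin m) F}
    (h : ∀ p : ℙ F (Fin m ⊕ Fin m → F), A • p = p) :
    A ∈ Subgroup.center (Matrix.symplecticGroup (Fin m) F) := by
  rw [mem_center_iff]
  apply eq_one_or_negOne_of_forall_smul
  intro v
  by_cases hv : v = 0
  · exact ⟨0, by simp [hv]⟩
  have := h (Projectivization.mk F v hv)
  rw [Projectivization.smul_mk, Projectivization.mk_eq_mk_iff'] at this
  obtain ⟨a, ha⟩ := this
  exact ⟨a, ha.symm⟩

/-- A normal subgroup of `Sp` is central or contains the commutator subgroup. -/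
theorem normal_le_center_or [Finite F] (hm : 1 ≤ m)
    (N : Subgroup (Matrix.symplecticGroup (Fin m) F)) [N.Normal] :
    N ≤ Subgroup.center _ ∨ commutator _ ≤ N := by
  have := isPreprimitive_sp (F := F) hm
  by_cases h : MulAction.fixedPoints N (ℙ F (Fin m ⊕ Fin m → F)) = Set.univ
  · left
    intro A hA
    apply mem_center_of_fixes_points
    intro p
    exact Set.eq_univ_iff_forall.1 h p ⟨A, hA⟩
  · right
    exact (iwasawa m F).commutator_le N h

theorem tv_not_mem_center {v : Fin m ⊕ Fin m → F} (hv : v ≠ 0) {c : F} (hc : c ≠ 0) :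
    tv v c ∉ Subgroup.center (Matrix.symplecticGroup (Fin m) F) := by
  obtain ⟨w, hw⟩ := exists_form_eq_one hv
  have hwv : sympForm m F w v = -1 := by rw [form_swap, hw]
  intro h
  have h1 := (Subgroup.mem_center_iff.1 h) (tv w 1)
  have h2 : (tv w 1 * tv v c).1 *ᵥ v = (tv v c * tv w 1).1 *ᵥ v := by rw [h1]
  simp only [sp_mul_mulVec, tv_mulVec, form_self, form_add_left, hw, hwv,
    mul_zero, zero_smul, add_zero, mul_one, one_smul, zero_add, mul_neg, neg_smul,
    left_eq_add, neg_eq_zero, smul_eq_zero] at h2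
  tauto

theorem nontrivial_psp (hm : 1 ≤ m) : Nontrivial (Cfsg.PSp m F) := by
  have hv : (Pi.single (.inl ⟨0, hm⟩) 1 : Fin m ⊕ Fin m → F) ≠ 0 := by simp
  refine ⟨⟨QuotientGroup.mk (tv (Pi.single (.inl ⟨0, hm⟩) 1) 1), 1,
    fun h => tv_not_mem_center hv one_ne_zero ?_⟩⟩
  exact (QuotientGroup.eq_one_iff _).1 h

/-- `PSp` is simple whenever `Sp` is perfect. -/
theorem isSimpleGroup_psp [Finite F] (hm : 1 ≤ m)
    (hperf : commutator (Matrix.symplecticGroup (Fin m) F) = ⊤) :
    IsSimpleGroup (Cfsg.PSp m F) := by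
  have := nontrivial_psp (F := F) hm
  refine ⟨fun H hH => ?_⟩
  rcases normal_le_center_or hm (H.comap (QuotientGroup.mk' _)) with h | h
  · left
    rw [eq_bot_iff]
    intro x hx
    obtain ⟨A, rfl⟩ := QuotientGroup.mk_surjective x
    exact (QuotientGroup.eq_one_iff _).2 (h hx)
  · right
    rw [eq_top_iff]
    intro x _
    obtain ⟨A, rfl⟩ := QuotientGroup.mk_surjective x
    exact h (hperf ▸ Subgroup.mem_top A)

end CL.SpG
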