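import Cfsg.Agent.SpG.Basic

/-! Transitivity of the symplectic group on non-zero vectors. -/

set_option autoImplicit false

namespace CL.SpG

open Matrix Cfsg

variable {m : ℕ} {F : Type*} [Field F]

theorem exists_tv_mulVec_eq {v w : Fin m ⊕ Fin m → F} (h : sympForm m F v w ≠ 0) :
    (tv (w - v) (sympForm m F v w)⁻¹).1 *ᵥ v = w := by
  rw [tv_mulVec, form_sub_right, form_self, sub_zero, inv_mul_cancel₀ h, one_smul]
  abel

theorem exists_form_ne_zero_both {v w : Fin m ⊕ Fin m → F} (hv : v ≠ 0) (hw : w ≠ 0) :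
    ∃ u, sympForm m F v u ≠ 0 ∧ sympForm m F w u ≠ 0 := by
  obtain ⟨a, ha⟩ := exists_form_ne_zero hv
  obtain ⟨b, hb⟩ := exists_form_ne_zero hw
  by_cases h1 : sympForm m F w a ≠ 0
  · exact ⟨a, ha, h1⟩
  by_cases h2 : sympForm m F v b ≠ 0
  · exact ⟨b, h2, hb⟩
  push Not at h1 h2
  exact ⟨a + b, by simpa [form_add_right, h2] using ha, by simpa [form_add_right, h1] using hb⟩

/-- The symplectic group is transitive on non-zero vectors. -/
theorem exists_sp_mulVec_eq {v w : Fin m ⊕ Fin m → F} (hv : v ≠ 0) (hw : w ≠ 0) :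
    ∃ g : Matrix.symplecticGroup (Fin m) F, g.1 *ᵥ v = w := by
  obtain ⟨u, h1, h2⟩ := exists_form_ne_zero_both hv hw
  have h3 : sympForm m F u w ≠ 0 := by rw [form_swap]; exact neg_ne_zero.2 h2
  exact ⟨tv (w - u) (sympForm m F u w)⁻¹ * tv (u - v) (sympForm m F v u)⁻¹, by
    rw [sp_mul_mulVec, exists_tv_mulVec_eq h1, exists_tv_mulVec_eq h3]⟩

end CL.SpG
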